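import Cfsg.Agent.SUGen.Odd.Uni
import Cfsg.Agent.SUGen.Top

/-!
Vectors whose multiples all occur as Eichler parameters in a subgroup.
-/

set_option autoImplicit false

namespace Cfsg.Agent.SUGen

open Matrix Classical.Herm Cfsg.Agent.AutPSU

variable {n q : ℕ} {F : Type*} [Field F] [Fintype F] {σ : F →+* F} (hu : UCtx σ q)
include hu

/-- All multiples of `a` are parameters at the point `z`. -/
def InM (H : Subgroup (Su n F q)) (z a : Vn n F) : Prop :=
  hB n σ z a = 0 ∧ ∀ (x : F) (d : F), IsE σ z (x • a) d → eS hu z (x • a) d ∈ H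

variable {H : Subgroup (Su n F q)} {z a b : Vn n F}

theorem InM.isE (hz : hB n σ z z = 0) (ha : hB n σ z a = 0) (x : F) {d : F}
    (hd : d + σ d = -hB n σ (x • a) (x • a)) : IsE σ z (x • a) d :=
  ⟨hz, by rw [map_smulₛₗ, LinearMap.smul_apply, (eq_zero_comm (hu.isHerm n)).1 ha, smul_zero], hd⟩

theorem InM.map (h : InM hu H z a) {g : Su n F q} (hg : g ∈ H) {z' : Vn n F} {l : F} (hl : l ≠ 0)
    (hgz : mat g *ᵥ z = l • z') : InM hu H z' (mat g *ᵥ a) := by
  have hsl : σ l ≠ 0 := (map_ne_zero σ).2 hl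
  refine ⟨?_, fun x d hE => ?_⟩
  · have h1 : hB n σ (mat g *ᵥ z) (mat g *ᵥ a) = 0 := by rw [hB_mat hu]; exact h.1
    rw [hgz, map_smulₛₗ, LinearMap.smul_apply, smul_eq_mul] at h1
    exact (mul_eq_zero.1 h1).resolve_left hsl
  have hz : hB n σ z z = 0 := by
    rw [← hB_mat hu g, hgz, smul_self (hu.isHerm n), hE.ee, mul_zero]
  have hE' : IsE σ z ((x / σ l) • a) (d / (l * σ l)) := by
    refine InM.isE hu hz h.1 _ ?_
    have h2 := hE.tr
    rw [smul_self (hu.isHerm n), hB_mat hu] at h2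
    rw [smul_self (hu.isHerm n), map_div₀, map_div₀, map_mul, hu.invol]
    field_simp
    linear_combination h2
  have h1 := mul_mem (mul_mem hg (h.2 _ _ hE')) (inv_mem hg)
  have hE2 := hE'.conjS hu g
  rw [suConj hu g hE', Matrix.mulVec_smul, hgz] at h1
  rw [Matrix.mulVec_smul, hgz] at hE2
  obtain ⟨e1, -⟩ := eS_scale hu l hE2 hl
  rw [e1, smul_smul, mul_div_cancel₀ _ hsl, mul_div_cancel₀ _ (mul_ne_zero hl hsl)] at h1
  exact h1

theorem InM.central (h : InM hu H z 0) {c : F} (hz : hB n σ z z = 0) (hc : c + σ c = 0) : tr hu z c ∈ H := by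
  have := h.2 0 c (by rw [smul_zero]; exact isE_zero hz hc)
  rwa [smul_zero] at this

theorem InM.adj (hc : InM hu H z 0) {d₀ d : F} (h0 : IsE σ z a d₀) (hm : eS hu z a d₀ ∈ H) (hE : IsE σ z a d) :
    eS hu z a d ∈ H := by
  have hk : (d - d₀) + σ (d - d₀) = 0 := by
    rw [map_sub]; linear_combination hE.tr - h0.tr
  have e1 := eS_mul hu h0 (isE_zero h0.ee hk)
  rw [add_zero, map_zero, sub_zero, add_sub_cancel] at e1
  rw [← e1]
  exact mul_mem hm (InM.central hu hc h0.ee hk)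

theorem InM.add (hz : hB n σ z z = 0) (hc : InM hu H z 0) (ha : InM hu H z a) (hb : InM hu H z b) :
    InM hu H z (a + b) := by
  refine ⟨by rw [map_add, ha.1, hb.1, add_zero], fun x d hE => ?_⟩
  obtain ⟨d₁, h1⟩ := exists_d hu (x • a)
  obtain ⟨d₂, h2⟩ := exists_d hu (x • b)
  have hA := InM.isE hu hz ha.1 x h1
  have hB := InM.isE hu hz hb.1 x h2
  have hm := mul_mem (ha.2 x d₁ hA) (hb.2 x d₂ hB)
  rw [eS_mul hu hA hB, ← smul_add] at hm
  have hAB := hA.mul hu hB
  rw [← smul_add] at hAB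
  exact InM.adj hu hc hAB hm hE

theorem InM.smul (ha : InM hu H z a) (r : F) : InM hu H z (r • a) := by
  refine ⟨by rw [map_smul, ha.1, smul_zero], fun x d hE => ?_⟩
  rw [smul_smul] at hE ⊢
  exact ha.2 _ _ hE

theorem InM.sum {ι : Type*} (hz : hB n σ z z = 0) (hc : InM hu H z 0) (s : Finset ι) (f : ι → Vn n F)
    (h : ∀ i ∈ s, InM hu H z (f i)) : InM hu H z (∑ i ∈ s, f i) :=
  Finset.sum_induction f (InM hu H z) (fun _ _ ha hb => InM.add hu hz hc ha hb) hc h

/-- Commutation with an element fixing the centre. -/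
theorem comm_step {g : Su n F q} (hg : g ∈ H) {e a : Vn n F} {d : F} (hge : mat g *ᵥ e = e)
    (hE : IsE σ e a d) (hm : eS hu e a d ∈ H) :
    eS hu e (mat g *ᵥ a - a) (hB n σ (mat g *ᵥ a - a) a) ∈ H := by
  have h1 := mul_mem (mul_mem hg hm) (inv_mem hg)
  have hE1 := hE.conjS hu g
  rw [suConj hu g hE, hge] at h1
  rw [hge] at hE1
  have h2 := mul_mem h1 (inv_mem hm)
  have hE2 : IsE σ e (-a) (σ d) := ⟨hE.ee, by rw [map_neg, LinearMap.neg_apply, hE.ae, neg_zero], by
    rw [hu.invol]; simp only [map_neg, LinearMap.neg_apply, neg_neg]; linear_combination hE.tr⟩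
  rw [eS_inv hu hE, eS_mul hu hE1 hE2, ← sub_eq_add_neg] at h2
  convert h2 using 2
  simp only [map_sub, map_neg, LinearMap.sub_apply]
  linear_combination -hE.tr

theorem rad_of_frame {m : ℕ} {p : ℕ → Vn n F} (P : Frame σ m p) (hc : InM hu H (p 0) 0)
    (h : ∀ j, j < 2 * m → InM hu H (p 0) (p j)) : Rad hu (p 0) H := by
  intro a d hE
  obtain ⟨c, hcs⟩ := P.span a
  have hd := P.dim
  have hm := P.two
  have hz := (P.zero (i := 0) (j := 0) (by omega) (by omega) (by omega))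
  have hM : InM hu H (p 0) a := by
    rw [hcs]
    refine InM.sum hu hz hc _ _ fun i _ => ?_
    by_cases hi : (i : ℕ) = 2 * m
    · have : c i = 0 := by
        rw [P.coord hu hcs i, hi, Nat.sub_self]; exact hE.ea hu
      rw [this, zero_smul]; exact hc
    · exact InM.smul hu (h _ (by have := i.2; omega)) _
  have := hM.2 1 d (by rwa [one_smul])
  rwa [one_smul] at this

end Cfsg.Agent.SUGen
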