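import Cfsg.Agent.SUGen.Pair
import Cfsg.Agent.SUGen.Odd.Closure

/-!
Odd dimensional unitary groups are generated by three conjugates of a regular unipotent element.
-/

set_option autoImplicit false

namespace Cfsg.Agent.SUGen

open Matrix Classical.Herm Cfsg.Agent.AutPSU

variable {n q : ℕ} {F : Type*} [Field F] [Fintype F] {σ : F →+* F} (hu : UCtx σ q) {m : ℕ} {p : ℕ → Vn n F}
include hu

/-- The short root elements and a transvection from the middle element. -/
theorem chain (P : Frame σ m p) {H : Subgroup (Su n F q)} {α β₀ γ β₁ : F} (hβ₀ : β₀ + σ β₀ = -(σ α * α))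
    (hb : β₁ + σ β₁ = -(σ γ * γ)) (hU : uel hu p m α β₀ ∈ H) (hX : eS hu (p 0) (γ • p m) β₁ ∈ H) :
    eS hu (p 0) 0 (-(γ * σ α) - σ (-(γ * σ α))) ∈ H := by
  have hn := P.dim
  have hm := P.two
  obtain ⟨r, hr⟩ : ∃ r : F, r = -(γ * σ α) := ⟨_, rfl⟩
  rw [← hr]
  have key : ∀ k, k ≤ m - 1 → eS hu (p 0) (r • p (m - 1 - k)) 0 ∈ H := by
    intro k
    induction k with
    | zero =>
      intro _
      have h1 := comm_step hu hU (uel_zero hu P hβ₀) (P.tri.isE hu hb) hX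
      rw [Matrix.mulVec_smul, uel_w hu P hβ₀, smul_add, smul_smul, add_sub_cancel_left] at h1
      simp only [map_smul, map_smulₛₗ, LinearMap.smul_apply, smul_eq_mul, mul_zero,
        P.zero (i := m - 1) (j := m) (by omega) (by omega) (by omega)] at h1
      rwa [Nat.sub_zero, hr, ← mul_neg]
    | succ k ih =>
      intro hk
      have hE : IsE σ (p 0) (r • p (m - 1 - k)) 0 := by
        refine ⟨P.zero (by omega) (by omega) (by omega), ?_, ?_⟩ <;>
          simp [P.zero (i := m - 1 - k) (j := 0) (by omega) (by omega) (by omega),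
            P.zero (i := m - 1 - k) (j := m - 1 - k) (by omega) (by omega) (by omega)]
      have h1 := comm_step hu hU (uel_zero hu P hβ₀) hE (ih (by omega))
      rw [Matrix.mulVec_smul, uel_low hu P hβ₀ (by omega) (by omega), smul_add, add_sub_cancel_left] at h1
      simp only [map_smul, map_smulₛₗ, LinearMap.smul_apply, smul_eq_mul, mul_zero,
        P.zero (i := m - 1 - k - 1) (j := m - 1 - k) (by omega) (by omega) (by omega)] at h1
      rwa [show m - 1 - (k + 1) = m - 1 - k - 1 by omega]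
  have h1 := key (m - 1) le_rfl
  rw [Nat.sub_self] at h1
  have h2 := eS_shift hu (e := p 0) (a := 0) (d := 0) r
    (isE_zero (P.zero (by omega) (by omega) (by omega)) (by simp only [map_add, map_sub, map_zero, hu.invol]; ring))
  rw [zero_add, zero_add] at h2
  rwa [h2] at h1

/-- Everything follows from the centre, one short root group and a mover. -/
theorem finish (P : Frame σ m p) {α β₀ c b₀ : F} (hα0 : α ≠ 0) (hβ₀ : β₀ + σ β₀ = -(σ α * α)) (hc0 : c ≠ 0)
    {s : Su n F q} {rs : ℕ → F} (hs3 : mat s *ᵥ p (m - 1) = (σ c)⁻¹ • p (2 * m))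
    (hs4 : ∀ j < m - 1, rs j ≠ 0 ∧ mat s *ᵥ p j = rs j • p (2 * m - 1 - j))
    {H : Subgroup (Su n F q)} (hUm' : uel hu p m α β₀ ∈ H) (hvm' : s * uel hu p m α β₀ * s⁻¹ ∈ H)
    (hM0 : InM hu H (p 0) 0) (hMl : InM hu H (p 0) (p (m - 1))) {hc1 : Su n F q} (hc1m : hc1 ∈ H) (hb0 : b₀ ≠ 0)
    (hc1e : mat hc1 *ᵥ p 0 = b₀ • p (2 * m))
    (hn2 : ¬ (n = 3 ∧ q = 2))
    (hc1y : ∀ y, hB n σ (p 0) y = 0 → hB n σ (p (2 * m)) y = 0 → hB n σ (p m) y = 0 → mat hc1 *ᵥ y = y) :
    H = ⊤ := by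
  have hn := P.dim
  have hm := P.two
  have hsc0 : σ c ≠ 0 := (map_ne_zero σ).2 hc0
  obtain ⟨U, hU⟩ : ∃ U : Su n F q, U = uel hu p m α β₀ := ⟨_, rfl⟩
  rw [← hU] at hUm' hvm'
  have hUm : U ∈ H := hUm'
  obtain ⟨v, hv⟩ : ∃ v : Su n F q, v = s * U * s⁻¹ := ⟨_, rfl⟩
  have hvm : v ∈ H := hv ▸ hvm'
  have hvs : ∀ x, mat v *ᵥ (mat s *ᵥ x) = mat s *ᵥ (mat U *ᵥ x) := fun x => by
    rw [hv, mat_mul_mulVec, mat_mul_mulVec, mat_inv_mulVec]
  have hz : hB n σ (p 0) (p 0) = 0 := P.zero (by omega) (by omega) (by omega)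
  have huM : ∀ a, InM hu H (p 0) a → InM hu H (p 0) (mat U *ᵥ a) := fun a ha =>
    InM.map hu ha hUm one_ne_zero (by rw [one_smul, hU, uel_zero hu P hβ₀])
  have hlow : ∀ k, k ≤ m - 1 → InM hu H (p 0) (p (m - 1 - k)) := by
    intro k
    induction k with
    | zero => intro _; rwa [Nat.sub_zero]
    | succ k ih =>
      intro hk
      have hk' := ih (by omega)
      have h1 := InM.add hu hz hM0 (huM _ hk') (InM.smul hu hk' (-1 : F))
      rw [hU, uel_low hu P hβ₀ (by omega) (by omega),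
        show p (m - 1 - k) + p (m - 1 - k - 1) + (-1 : F) • p (m - 1 - k) = p (m - 1 - k - 1) by module] at h1
      rwa [show m - 1 - (k + 1) = m - 1 - k - 1 by omega]
  -- the point `p (m+1)`
  obtain ⟨κ, hκ⟩ : ∃ κ : F, κ = σ c * rs (m - 2) := ⟨_, rfl⟩
  have hκ0 : κ ≠ 0 := hκ ▸ mul_ne_zero hsc0 (hs4 (m - 2) (by omega)).1
  have hvf : mat v *ᵥ p (2 * m) = p (2 * m) + κ • p (m + 1) := by
    have h1 := hvs (p (m - 1))
    rw [hs3, Matrix.mulVec_smul, hU, uel_low hu P hβ₀ (by omega) (by omega), Matrix.mulVec_add, hs3,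
      show m - 1 - 1 = m - 2 by omega, (hs4 (m - 2) (by omega)).2, show 2 * m - 1 - (m - 2) = m + 1 by omega] at h1
    refine smul_right_injective _ (inv_ne_zero hsc0) (h1.trans ?_)
    rw [hκ]
    match_scalars <;> field_simp
  have hc1p : ∀ j, j < 2 * m → 0 < j → j ≠ m → mat hc1 *ᵥ p j = p j := fun j h1 h2 h3 =>
    hc1y _ (P.zero (by omega) (by omega) (by omega)) (P.zero (by omega) (by omega) (by omega))
      (P.zero (by omega) (by omega) (by omega))
  have hMf : InM hu H (p (2 * m)) 0 := by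
    have := InM.map hu hM0 hc1m hb0 hc1e
    rwa [Matrix.mulVec_zero] at this
  have hMz : InM hu H (p (2 * m) + κ • p (m + 1)) 0 := by
    have := InM.map hu hMf hvm one_ne_zero (by rw [one_smul, hvf])
    rwa [Matrix.mulVec_zero] at this
  have hff : hB n σ (p (2 * m)) (p (2 * m)) = 0 := P.zero (by omega) (by omega) (by omega)
  have hzz : hB n σ (p (2 * m) + κ • p (m + 1)) (p (2 * m) + κ • p (m + 1)) = 0 := by
    simp [hff, P.zero (i := 2 * m) (j := m + 1) (by omega) (by omega) (by omega),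
      P.zero (i := m + 1) (j := 2 * m) (by omega) (by omega) (by omega),
      P.zero (i := m + 1) (j := m + 1) (by omega) (by omega) (by omega)]
  obtain ⟨c₁, hc₁0, hc₁⟩ := skew_exists hu
  have hc₁' : (-c₁) + σ (-c₁) = 0 := by rw [map_neg]; linear_combination -hc₁
  set g₂ := tr hu (p (2 * m)) (-c₁) * tr hu (p (2 * m) + κ • p (m + 1)) c₁
  have hg₂m : g₂ ∈ H := mul_mem (InM.central hu hMf hff hc₁') (InM.central hu hMz hzz hc₁)
  obtain ⟨t₀, ht₀⟩ : ∃ t₀ : F, t₀ = c₁ * κ := ⟨_, rfl⟩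
  have ht₀0 : t₀ ≠ 0 := ht₀ ▸ mul_ne_zero hc₁0 hκ0
  have hfe : hB n σ (p (2 * m)) (p 0) = 1 := P.one (by omega)
  have hpe : hB n σ (p (m + 1)) (p 0) = 0 := P.zero (by omega) (by omega) (by omega)
  have hfp : hB n σ (p (2 * m)) (p (m + 1)) = 0 := P.zero (by omega) (by omega) (by omega)
  have hg₂e : mat g₂ *ᵥ p 0 = p 0 + t₀ • p (m + 1) := by
    rw [mat_mul_mulVec, tr_mulVec hu hzz hc₁, tr_mulVec hu hff hc₁']
    simp only [map_add, map_smulₛₗ, LinearMap.add_apply, LinearMap.smul_apply, smul_eq_mul, RingHom.id_apply,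
      hfe, hpe, hfp, hff, ht₀]
    module
  have hline : ∀ l : F, InM hu H (l • p 0 + t₀ • p (m + 1)) 0 ∧
      ∃ g ∈ H, mat g *ᵥ p 0 = l • p 0 + t₀ • p (m + 1) := by
    intro l
    obtain ⟨x, hx⟩ : ∃ x : F, σ x * t₀ = 1 - l := ⟨σ ((1 - l) / t₀), by rw [hu.invol, div_mul_cancel₀ _ ht₀0]⟩
    have hEx : IsE σ (p 0) (x • p (m - 1)) 0 := by
      refine ⟨hz, ?_, ?_⟩ <;>
        simp [P.zero (i := m - 1) (j := 0) (by omega) (by omega) (by omega),
          P.zero (i := m - 1) (j := m - 1) (by omega) (by omega) (by omega)]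
    have hem := (hlow 0 (by omega)).2 x 0 (by rwa [Nat.sub_zero])
    rw [Nat.sub_zero] at hem
    have hy : mat (eS hu (p 0) (x • p (m - 1)) 0 * g₂) *ᵥ p 0 = l • p 0 + t₀ • p (m + 1) := by
      rw [mat_mul_mulVec, hg₂e, eS_mulVec hu hEx]
      simp only [map_add, map_smul, map_smulₛₗ, LinearMap.smul_apply, smul_eq_mul, RingHom.id_apply, hz,
        P.zero (i := 0) (j := m + 1) (by omega) (by omega) (by omega),
        P.zero (i := m - 1) (j := 0) (by omega) (by omega) (by omega),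
        P.one (i := m - 1) (j := m + 1) (by omega)]
      match_scalars <;> first | linear_combination -hx | ring
    refine ⟨?_, _, mul_mem hem hg₂m, hy⟩
    have := InM.map hu hM0 (mul_mem hem hg₂m) one_ne_zero (by rw [one_smul, hy])
    rwa [Matrix.mulVec_zero] at this
  have hpp : hB n σ (p (m + 1)) (p (m + 1)) = 0 := P.zero (by omega) (by omega) (by omega)
  have hMp0 : InM hu H (p (m + 1)) 0 := by
    obtain ⟨-, g, hg', hge⟩ := hline 0
    have := InM.map hu hM0 hg' ht₀0 (show mat g *ᵥ p 0 = t₀ • p (m + 1) by rw [hge]; module)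
    rwa [Matrix.mulVec_zero] at this
  have hep : hB n σ (p 0) (p (m + 1)) = 0 := P.zero (by omega) (by omega) (by omega)
  have hMp : InM hu H (p 0) (p (m + 1)) := by
    refine ⟨hep, fun x d hE => ?_⟩
    by_cases hx : x = 0
    · subst hx
      rw [zero_smul] at hE ⊢
      have := hM0.2 0 d (by rwa [zero_smul])
      rwa [zero_smul] at this
    obtain ⟨sx, hsx⟩ : ∃ sx : F, c₁ * sx = x := ⟨x / c₁, mul_div_cancel₀ _ hc₁0⟩
    have hsx0 : sx ≠ 0 := fun h => hx (by rw [← hsx, h, mul_zero])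
    obtain ⟨-, g, hg', hge⟩ := hline (t₀ / sx)
    have hyy : hB n σ (p 0 + sx • p (m + 1)) (p 0 + sx • p (m + 1)) = 0 := by
      simp [hz, hep, hpe, hpp]
    have hY : InM hu H (p 0 + sx • p (m + 1)) 0 := by
      have := InM.map hu hM0 hg' (div_ne_zero ht₀0 hsx0)
        (show mat g *ᵥ p 0 = (t₀ / sx) • (p 0 + sx • p (m + 1)) by
          rw [hge]; match_scalars <;> field_simp)
      rwa [Matrix.mulVec_zero] at this
    have hN : sx * σ sx * c₁ + σ (sx * σ sx * c₁) = 0 := by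
      simp only [map_mul, hu.invol]; linear_combination sx * σ sx * hc₁
    have hE0 : IsE σ (p 0) (x • p (m + 1)) 0 := InM.isE hu hz hep x (by simp [hpp])
    have hid : tr hu (p 0 + sx • p (m + 1)) c₁ =
        tr hu (p 0) c₁ * tr hu (p (m + 1)) (sx * σ sx * c₁) * eS hu (p 0) (x • p (m + 1)) 0 := by
      refine su_ext_mulVec fun y => ?_
      rw [mat_mul_mulVec, mat_mul_mulVec, eS_mulVec hu hE0, tr_mulVec hu hpp hN, tr_mulVec hu hz hc₁,
        tr_mulVec hu hyy hc₁]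
      simp only [map_add, map_smul, map_smulₛₗ, LinearMap.add_apply, LinearMap.smul_apply, smul_eq_mul,
        RingHom.id_apply, hz, hep, hpe, hpp, ← hsx, map_mul]
      match_scalars
      · ring
      · linear_combination hB n σ (p (m + 1)) y * σ sx * hc₁
      · ring
    have h1 := InM.central hu hY hyy hc₁
    rw [hid] at h1
    have h2 := mul_mem (inv_mem (mul_mem (InM.central hu hM0 hz hc₁) (InM.central hu hMp0 hpp hN))) h1
    rw [inv_mul_cancel_left] at h2
    exact InM.adj hu hM0 hE0 h2 hE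
  have hMk : ∀ x d, IsE σ (p 0) (x • p (m + 1)) d → eS hu (p 0) (x • p (m + 1)) d ∈ H := hMp.2
  have hEk : IsE σ (p 0) (κ • p (m + 1)) 0 := InM.isE hu hz hep κ (by simp [hpp])
  set k₀ := eS hu (p 0) (κ • p (m + 1)) 0 with hk₀
  have hk₀m : k₀ ∈ H := hMk κ 0 hEk
  have hk₀f : mat k₀ *ᵥ p (2 * m) = p (2 * m) + κ • p (m + 1) := by
    rw [hk₀, eS_mulVec hu hEk, map_smulₛₗ, LinearMap.smul_apply, P.one (show 0 + 2 * m = 2 * m by omega),
      P.zero (i := m + 1) (j := 2 * m) (by omega) (by omega) (by omega)]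
    simp
  set W := hc1⁻¹ * (k₀⁻¹ * (v * hc1)) with hW
  have hWm : W ∈ H := mul_mem (inv_mem hc1m) (mul_mem (inv_mem hk₀m) (mul_mem hvm hc1m))
  have hWe : mat W *ᵥ p 0 = (1 : F) • p 0 := by
    rw [hW, mat_mul_mulVec, mat_mul_mulVec, mat_mul_mulVec, hc1e, Matrix.mulVec_smul, hvf, ← hk₀f,
      ← Matrix.mulVec_smul (mat k₀) b₀, mat_inv_mulVec, ← hc1e, mat_inv_mulVec, one_smul]
  have hhigh : ∀ i, m + 1 + i < 2 * m → InM hu H (p 0) (p (m + 1 + i)) := by
    intro i
    induction i with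
    | zero => intro _; simpa using hMp
    | succ i ih =>
      intro hi
      obtain ⟨j, hj⟩ : ∃ j, j = m + 1 + i := ⟨_, rfl⟩
      obtain ⟨l, hl⟩ : ∃ l, l = 2 * m - 1 - j := ⟨_, rfl⟩
      obtain ⟨hr1, hsl⟩ := hs4 l (by omega)
      obtain ⟨hr2, hsl'⟩ := hs4 (l - 1) (by omega)
      rw [show 2 * m - 1 - l = j by omega] at hsl
      rw [show 2 * m - 1 - (l - 1) = j + 1 by omega] at hsl'
      obtain ⟨ρ, hρ⟩ : ∃ ρ : F, ρ = rs (l - 1) / rs l := ⟨_, rfl⟩
      have hρ0 : ρ ≠ 0 := hρ ▸ div_ne_zero hr2 hr1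
      have hvj : mat v *ᵥ p j = p j + ρ • p (j + 1) := by
        have h1 := hvs (p l)
        rw [hsl, Matrix.mulVec_smul, hU, uel_low hu P hβ₀ (by omega) (by omega), Matrix.mulVec_add, hsl, hsl'] at h1
        refine smul_right_injective _ hr1 (h1.trans ?_)
        rw [hρ]
        match_scalars <;> field_simp
      have hkfix : ∀ j', m + 1 ≤ j' → j' < 2 * m → mat k₀ *ᵥ p j' = p j' := by
        intro j' h1 h2
        rw [hk₀, eS_mulVec hu hEk, map_smulₛₗ, LinearMap.smul_apply,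
          P.zero (i := 0) (j := j') (by omega) (by omega) (by omega),
          P.zero (i := m + 1) (j := j') (by omega) (by omega) (by omega)]
        simp
      have hinv : ∀ (g : Su n F q) (x : Vn n F), mat g *ᵥ x = x → mat g⁻¹ *ᵥ x = x := fun g x hx => by
        conv_lhs => rw [← hx, mat_inv_mulVec]
      have hWj : mat W *ᵥ p j = p j + ρ • p (j + 1) := by
        rw [hW, mat_mul_mulVec, mat_mul_mulVec, mat_mul_mulVec, hc1p j (by omega) (by omega) (by omega), hvj,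
          hinv k₀ _ (by rw [Matrix.mulVec_add, Matrix.mulVec_smul, hkfix j (by omega) (by omega),
            hkfix (j + 1) (by omega) (by omega)]),
          hinv hc1 _ (by rw [Matrix.mulVec_add, Matrix.mulVec_smul, hc1p j (by omega) (by omega) (by omega),
            hc1p (j + 1) (by omega) (by omega) (by omega)])]
      have hpj : InM hu H (p 0) (p j) := hj ▸ ih (by omega)
      have h1 := InM.map hu hpj hWm one_ne_zero hWe
      rw [hWj] at h1
      have h2 := InM.smul hu (InM.add hu hz hM0 h1 (InM.smul hu hpj (-1 : F))) ρ⁻¹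
      rw [show ρ⁻¹ • (p j + ρ • p (j + 1) + (-1 : F) • p j) = p (j + 1) by
        match_scalars <;> field_simp <;> ring] at h2
      rwa [show m + 1 + (i + 1) = j + 1 by omega]
  refine top_of_radical hu (by omega) hn2 (P.tri).hp (rad_of_frame hu P hM0 fun j hj => ?_) hc1m hb0 hc1e
  rcases Nat.lt_trichotomy j m with h | h | h
  · have := hlow (m - 1 - j) (by omega)
    rwa [show m - 1 - (m - 1 - j) = j by omega] at this
  · obtain rfl := h
    have h1 := huM _ hMp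
    rw [hU, uel_succ hu P hβ₀] at h1
    have h2 := InM.add hu hz hM0 (InM.add hu hz hM0 h1 (InM.smul hu hMp (-1 : F))) (InM.smul hu hMl (-β₀))
    rw [show p (j + 1) + α • p j + β₀ • p (j - 1) + (-1 : F) • p (j + 1) + (-β₀) • p (j - 1) = α • p j by module] at h2
    have h3 := InM.smul hu h2 α⁻¹
    rwa [smul_smul, inv_mul_cancel₀ hα0, one_smul] at h3
  · have := hhigh (j - (m + 1)) (by omega)
    rwa [show m + 1 + (j - (m + 1)) = j by omega] at this

/-- The third conjugate. -/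
theorem exists_conj (P : Frame σ m p) {α β₀ γ β₁ : F} (hα : α ≠ 0) (hβ₀ : β₀ + σ β₀ = -(σ α * α))
    (hb : β₁ + σ β₁ = -(σ γ * γ)) :
    ∃ h : Su n F q, h * uel hu p m α β₀ * h⁻¹ = eS hu (p 0) (γ • p m) β₁ * uel hu p m α β₀ := by
  have hn := P.dim
  have hm := P.two
  set U := uel hu p m α β₀ with hUdef
  have hz : hB n σ (p 0) (p 0) = 0 := P.zero (by omega) (by omega) (by omega)
  have hsα : σ α ≠ 0 := (map_ne_zero σ).2 hα
  obtain ⟨x₁, hx₁⟩ : ∃ x : F, x = -γ / α := ⟨_, rfl⟩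
  obtain ⟨x₂, hx₂⟩ : ∃ x : F, x = x₁ * β₀ / σ α := ⟨_, rfl⟩
  set a := x₁ • p (m + 1) + x₂ • p m with ha
  obtain ⟨d, hd⟩ := exists_d hu a
  have hea : hB n σ (p 0) a = 0 := by
    rw [ha, map_add, map_smul, map_smul, P.zero (by omega) (by omega) (by omega),
      P.zero (by omega) (by omega) (by omega), smul_zero, smul_zero, add_zero]
  have hE : IsE σ (p 0) a d := ⟨hz, (eq_zero_comm (hu.isHerm n)).1 hea, hd⟩
  have hUa : mat U *ᵥ a = a + (-γ) • p m := by
    rw [ha, Matrix.mulVec_add, Matrix.mulVec_smul, Matrix.mulVec_smul, hUdef, uel_succ hu P hβ₀, uel_w hu P hβ₀]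
    match_scalars <;> simp only [hx₂, hx₁] <;> field_simp <;> ring
  -- the commutator of the conjugating element with the regular element
  have hE' : IsE σ (p 0) (mat U *ᵥ (-a)) (σ d) := by
    have h2 : IsE σ (p 0) (-a) (σ d) := ⟨hz, by rw [map_neg, LinearMap.neg_apply, hE.ae, neg_zero], by
      rw [hu.invol]; simp only [map_neg, LinearMap.neg_apply, neg_neg]; linear_combination hE.tr⟩
    have := h2.conjS hu U
    rwa [uel_zero hu P hβ₀] at this
  set X₀ := eS hu (p 0) a d * eS hu (p 0) (mat U *ᵥ (-a)) (σ d) with hX₀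
  have hX : eS hu (p 0) a d * U * (eS hu (p 0) a d)⁻¹ = X₀ * U := by
    have h2 : IsE σ (p 0) (-a) (σ d) := ⟨hz, by rw [map_neg, LinearMap.neg_apply, hE.ae, neg_zero], by
      rw [hu.invol]; simp only [map_neg, LinearMap.neg_apply, neg_neg]; linear_combination hE.tr⟩
    have h3 := suConj hu U h2
    rw [uel_zero hu P hβ₀] at h3
    rw [hX₀, ← h3, eS_inv hu hE]
    simp [mul_assoc]
  have hvec : a + mat U *ᵥ (-a) = γ • p m := by rw [Matrix.mulVec_neg, hUa]; module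
  have hE₀ := hE.mul hu hE'
  rw [eS_mul hu hE hE', hvec] at hX₀
  rw [hvec] at hE₀
  set D₀ := d + σ d - hB n σ a (mat U *ᵥ (-a))
  have hk : (β₁ - D₀) + σ (β₁ - D₀) = 0 := by
    rw [map_sub]
    linear_combination (P.tri.isE hu hb).tr - hE₀.tr
  obtain ⟨k, hk'⟩ : ∃ k : F, k = β₁ - D₀ := ⟨_, rfl⟩
  rw [← hk'] at hk
  obtain ⟨t, ht⟩ := exists_trace hu.toIsInvol (a := (1 : F)) (map_one σ)
  obtain ⟨y, hy⟩ : ∃ y : F, y = -(t * k) := ⟨_, rfl⟩
  have hyk : -y + σ y = k := by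
    rw [hy]; simp only [map_neg, map_mul]; linear_combination k * ht - σ t * hk
  have hp1 : IsE σ (p 0) (y • p 1) 0 := by
    refine ⟨hz, ?_, ?_⟩ <;>
      simp [P.zero (i := 1) (j := 0) (by omega) (by omega) (by omega),
        P.zero (i := 1) (j := 1) (by omega) (by omega) (by omega)]
  set h₁ := eS hu (p 0) (y • p 1) 0 with hh₁
  have hc1 : h₁ * U * h₁⁻¹ = eS hu (p 0) 0 k * U := by
    have h3 := suConj hu U (show IsE σ (p 0) (-(y • p 1)) (σ 0) from
      ⟨hz, by rw [map_neg, LinearMap.neg_apply, hp1.ae, neg_zero], by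
        rw [hu.invol]; simp only [map_neg, LinearMap.neg_apply, neg_neg]; linear_combination hp1.tr⟩)
    rw [uel_zero hu P hβ₀, Matrix.mulVec_neg, Matrix.mulVec_smul, uel_low hu P hβ₀ le_rfl (by omega)] at h3
    have hv : y • p 1 + -(y • (p 1 + p (1 - 1))) = 0 + (-y) • p 0 := by simp
    have hE3 : IsE σ (p 0) (-(y • (p 1 + p (1 - 1)))) (σ 0) := by
      refine ⟨hz, ?_, ?_⟩ <;>
        simp [hz, P.zero (i := 1) (j := 0) (by omega) (by omega) (by omega),
          P.zero (i := 1) (j := 1) (by omega) (by omega) (by omega),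
          P.zero (i := 0) (j := 1) (by omega) (by omega) (by omega)]
    have e1 := eS_mul hu hp1 hE3
    rw [hv, show (0 : F) + σ 0 - hB n σ (y • p 1) (-(y • (p 1 + p (1 - 1)))) = 0 by
      simp [P.zero (i := 1) (j := 0) (by omega) (by omega) (by omega),
        P.zero (i := 1) (j := 1) (by omega) (by omega) (by omega)],
      eS_shift hu (-y) (isE_zero hz (by simp only [map_add, map_sub, map_neg, map_zero, hu.invol]; ring)),
      zero_add, show -y - σ (-y) = k by rw [map_neg, sub_neg_eq_add, hyk]] at e1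
    rw [← e1, ← h3, hh₁, eS_inv hu hp1]
    simp [mul_assoc]
  refine ⟨h₁ * eS hu (p 0) a d, ?_⟩
  rw [show h₁ * eS hu (p 0) a d * U * (h₁ * eS hu (p 0) a d)⁻¹ =
    h₁ * (eS hu (p 0) a d * U * (eS hu (p 0) a d)⁻¹) * h₁⁻¹ by simp [mul_assoc], hX, hX₀,
    show h₁ * (eS hu (p 0) (γ • p m) D₀ * U) * h₁⁻¹ =
      (h₁ * eS hu (p 0) (γ • p m) D₀ * h₁⁻¹) * (h₁ * U * h₁⁻¹) by simp [mul_assoc], hc1, ← mul_assoc]
  congr 1
  rw [hh₁, suConj hu _ hE₀, eS_fix hu hp1, Matrix.mulVec_smul, show mat (eS hu (p 0) (y • p 1) 0) *ᵥ p m = p m by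
    rw [eS_mulVec hu hp1, map_smulₛₗ, LinearMap.smul_apply, P.zero (by omega) (by omega) (by omega),
      P.zero (i := 1) (j := m) (by omega) (by omega) (by omega)]
    simp]
  rw [eS_mul hu hE₀ (isE_zero hz hk), add_zero, map_zero, sub_zero, hk', add_sub_cancel]

theorem generated_five (hn : n = 2 * m + 1) (hm : 2 ≤ m) (hq : 3 ≤ q) :
    ∃ u g h : Su n F q, (IsNilpotent (mat u - 1) ∧ (mat u - 1) ^ (n - 1) ≠ 0) ∧
      Subgroup.closure ({u, g * u * g⁻¹, h * u * h⁻¹} : Set (Su n F q)) = ⊤ := by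
  obtain ⟨p, P⟩ := Frame.exists_frame hu hn hm
  obtain ⟨Pa⟩ := exists_params hu (n := n) hq
  obtain ⟨a₁, ha₁0, ha₁⟩ := exists_a hu Pa
  obtain ⟨β₁, δ, hb, hδ, hconf⟩ := config hu P.tri Pa ha₁
  obtain ⟨τ, hτ, hswap⟩ := P.exists_swap hu
  obtain ⟨t, ht⟩ := exists_trace hu.toIsInvol (a := (1 : F)) (map_one σ)
  obtain ⟨r, hr0, hr⟩ : ∃ r : F, r ≠ 0 ∧ r - σ r = δ := by
    by_cases h0 : δ = 0
    · exact ⟨1, one_ne_zero, by rw [h0, map_one, sub_self]⟩
    · refine ⟨t * δ, mul_ne_zero (fun h => ?_) h0, ?_⟩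
      · rw [h, map_zero, add_zero] at ht; exact zero_ne_one ht
      · rw [map_mul]; linear_combination δ * ht - σ t * hδ
  obtain ⟨α, hα'⟩ : ∃ α : F, α = σ (-r / Pa.γ) := ⟨_, rfl⟩
  have hγ0 := Pa.γ0
  have hα0 : α ≠ 0 := by rw [hα']; exact (map_ne_zero σ).2 (div_ne_zero (neg_ne_zero.2 hr0) hγ0)
  have hrα : -(Pa.γ * σ α) = r := by rw [hα', hu.invol]; field_simp
  have hτ0 : τ ≠ 0 := left_ne_zero_of_mul_eq_one hτ
  obtain ⟨c, hc⟩ : ∃ c : F, c = α * τ / a₁ := ⟨_, rfl⟩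
  have hc0 : c ≠ 0 := hc ▸ div_ne_zero (mul_ne_zero hα0 hτ0) ha₁0
  have hsc0 : σ c ≠ 0 := (map_ne_zero σ).2 hc0
  have hca : c * a₁ = α * τ := by rw [hc, div_mul_cancel₀ _ ha₁0]
  have hca' := congrArg σ hca
  simp only [map_mul] at hca'
  obtain ⟨β₀, hβ0'⟩ : ∃ b : F, b = Pa.d * (c * σ c) := ⟨_, rfl⟩
  have hβ₀ : β₀ + σ β₀ = -(σ α * α) := by
    rw [hβ0']
    simp only [map_mul, hu.invol]
    linear_combination c * σ c * ha₁ - σ c * σ a₁ * hca - α * τ * hca' - σ α * α * hτ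
  obtain ⟨s, rs, hs1, hs2, hs3, hs4⟩ := hswap c hc0
  obtain ⟨U, hU⟩ : ∃ U : Su n F q, U = uel hu p m α β₀ := ⟨_, rfl⟩
  obtain ⟨g, hg⟩ := exists_conj hu P hα0 hβ₀ hb
  rw [← hU] at hg
  refine ⟨U, s, g, hU ▸ uel_regular hu P hβ₀ hα0, ?_⟩
  set H := Subgroup.closure ({U, s * U * s⁻¹, g * U * g⁻¹} : Set (Su n F q)) with hH
  have hUm : U ∈ H := Subgroup.subset_closure (by simp)
  set v := s * U * s⁻¹ with hv
  have hvm : v ∈ H := Subgroup.subset_closure (Or.inr (Or.inl rfl))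
  have hgm : g * U * g⁻¹ ∈ H := Subgroup.subset_closure (by simp)
  have hX₁ : eS hu (p 0) (Pa.γ • p m) β₁ ∈ H := by
    rw [hg] at hgm
    simpa [mul_assoc] using mul_mem hgm (inv_mem hUm)
  have hz : hB n σ (p 0) (p 0) = 0 := P.zero (by omega) (by omega) (by omega)
  have hT1 : eS hu (p 0) 0 δ ∈ H := by
    have := chain hu P hβ₀ hb (hU ▸ hUm) hX₁
    rwa [hrα, hr] at this
  have hX₂ : eS hu (p 0) (Pa.γ • p m) (β₁ + δ) ∈ H := by
    have := mul_mem hX₁ hT1
    rwa [eS_mul hu (P.tri.isE hu hb) (isE_zero hz hδ), add_zero, map_zero, sub_zero] at this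
  have hvs : ∀ x, mat v *ᵥ (mat s *ᵥ x) = mat s *ᵥ (mat U *ᵥ x) := fun x => by
    rw [hv, mat_mul_mulVec, mat_mul_mulVec, mat_inv_mulVec]
  have hve : mat v *ᵥ p 0 = p 0 + a₁ • p m + Pa.d • p (2 * m) := by
    have h1 := hvs (p (m + 1))
    rw [hs1, Matrix.mulVec_smul, hU, uel_succ hu P hβ₀, Matrix.mulVec_add, Matrix.mulVec_add, Matrix.mulVec_smul,
      Matrix.mulVec_smul, hs1, hs2, hs3] at h1
    refine smul_right_injective _ hc0 (h1.trans ?_)
    match_scalars
    · ring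
    · linear_combination -hca
    · rw [hβ0']; field_simp
  have hvw : mat v *ᵥ p m = p m - σ a₁ • p (2 * m) := by
    have h1 := hvs (p m)
    rw [hs2, Matrix.mulVec_smul, hU, uel_w hu P hβ₀, Matrix.mulVec_add, Matrix.mulVec_smul, hs2, hs3] at h1
    refine smul_right_injective _ hτ0 (h1.trans ?_)
    match_scalars
    · ring
    · field_simp
      linear_combination τ * hca' + σ α * hτ
  obtain ⟨hP, hc1, hc1m, hc1e, hc1y⟩ := hconf H v hve hvw (by
    exact mul_mem (mul_mem hvm hX₁) (inv_mem hvm)) hX₂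
  have hb0 : Pa.b ≠ 0 := by
    intro h0
    refine mat_mulVec_ne_zero hc1 (P.ne_zero (show 0 < n by omega)) ?_
    rw [hc1e, h0, zero_smul]
  have hM0 : InM hu H (p 0) 0 := by
    refine ⟨map_zero _, fun x d hE => ?_⟩
    rw [smul_zero] at hE ⊢
    have h2 := all_of_par hu P.tri hP (x := 0) (d := d) (by simpa using hE.tr)
    rwa [zero_smul] at h2
  have hMw : InM hu H (p 0) (p m) := ⟨P.zero (by omega) (by omega) (by omega), fun x d hE =>
    all_of_par hu P.tri hP (by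
      have := hE.tr
      simp only [map_smul, map_smulₛₗ, LinearMap.smul_apply, smul_eq_mul, RingHom.id_apply,
        P.one (show m + m = 2 * m by omega)] at this
      linear_combination this)⟩
  refine finish hu P hα0 hβ₀ hc0 hs3 hs4 (hU ▸ hUm) (hU ▸ hvm) hM0 ?_ hc1m hb0 hc1e (by omega) hc1y
  have hUw : InM hu H (p 0) (mat U *ᵥ p m) := InM.map hu hMw hUm one_ne_zero
    (by rw [one_smul, hU, uel_zero hu P hβ₀])
  have h1 := InM.add hu hz hM0 hUw (InM.smul hu hMw (-1 : F))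
  rw [hU, uel_w hu P hβ₀, show p m + (-σ α) • p (m - 1) + (-1 : F) • p m = (-σ α) • p (m - 1) by module] at h1
  have h2 := InM.smul hu h1 (-σ α)⁻¹
  rwa [smul_smul, inv_mul_cancel₀ (neg_ne_zero.2 ((map_ne_zero σ).2 hα0)), one_smul] at h2

end Cfsg.Agent.SUGen
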