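import Cfsg.Agent.SUGen.Odd.Main

/-!
Odd dimensional unitary groups over the field of two elements, generated by three conjugates of a regular unipotent.
-/

set_option autoImplicit false

namespace Cfsg.Agent.SUGen

open Matrix Classical.Herm Cfsg.Agent.AutPSU

variable {n q : ℕ} {F : Type*} [Field F] [Fintype F] {σ : F →+* F} (hu : UCtx σ q) {m : ℕ}
include hu

theorem generated_five_two (hn : n = 2 * m + 1) (hm : 2 ≤ m) (hq : q = 2) :
    ∃ u g h : Su n F q, (IsNilpotent (mat u - 1) ∧ (mat u - 1) ^ (n - 1) ≠ 0) ∧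
      Subgroup.closure ({u, g * u * g⁻¹, h * u * h⁻¹} : Set (Su n F q)) = ⊤ := by
  obtain ⟨p, P⟩ := Frame.exists_frame hu hn hm
  have hF : Fintype.card F = 4 := by rw [card_F hu, hq]; rfl
  have h2 : (2 : F) = 0 := by
    have h4 : ((4 : ℕ) : F) = 0 := hF ▸ FiniteField.cast_card_eq_zero F
    exact mul_self_eq_zero.1 (by push_cast at h4; linear_combination h4)
  obtain ⟨ω, hω, hω1⟩ := exists_norm_one hu
  rw [hq] at hω
  have hω0 : ω ≠ 0 := left_ne_zero_of_mul_eq_one hω1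
  have hσω : σ ω = ω ^ 2 := by rw [hu.pow, hq]
  have hω3 : ω ^ 3 = 1 := by linear_combination hω1 - ω * hσω
  have hωne : ω ≠ 1 := fun h => by rw [h, orderOf_one] at hω; omega
  have hωq : ω ^ 2 + ω + 1 = 0 := by
    have h : (ω - 1) * (ω ^ 2 + ω + 1) = 0 := by linear_combination hω3
    exact (mul_eq_zero.1 h).resolve_left (sub_ne_zero.2 hωne)
  have hσ2 : σ (ω ^ 2) = ω := by rw [map_pow, hσω]; linear_combination ω * hω3
  have hb : ω + σ ω = -(σ (ω ^ 2) * ω ^ 2) := by rw [hσ2, hσω]; linear_combination hωq + hω3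
  have hβ₀ : ω + σ ω = -(σ ω * ω) := by rw [hσω]; linear_combination hωq + hω3
  obtain ⟨τ, hτ, hswap⟩ := P.exists_swap hu
  have hτ0 : τ ≠ 0 := left_ne_zero_of_mul_eq_one hτ
  obtain ⟨c, hc⟩ : ∃ c : F, c = ω * τ := ⟨_, rfl⟩
  have hc0 : c ≠ 0 := hc ▸ mul_ne_zero hω0 hτ0
  have hsc0 : σ c ≠ 0 := (map_ne_zero σ).2 hc0
  have hcc : c * σ c = 1 := by rw [hc, map_mul]; linear_combination τ * σ τ * hω1 + hτ
  obtain ⟨s, rs, hs1, hs2, hs3, hs4⟩ := hswap c hc0
  obtain ⟨g, hg⟩ := exists_conj hu P hω0 hβ₀ hb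
  refine ⟨uel hu p m ω ω, s, g, uel_regular hu P hβ₀ hω0, ?_⟩
  set U := uel hu p m ω ω with hU
  set H := Subgroup.closure ({U, s * U * s⁻¹, g * U * g⁻¹} : Set (Su n F q)) with hH
  have hUm : U ∈ H := Subgroup.subset_closure (by simp)
  have hvm : s * U * s⁻¹ ∈ H := Subgroup.subset_closure (Or.inr (Or.inl rfl))
  have hgm : g * U * g⁻¹ ∈ H := Subgroup.subset_closure (by simp)
  obtain ⟨v, hv⟩ : ∃ v : Su n F q, v = s * U * s⁻¹ := ⟨_, rfl⟩
  have hX₁ : eS hu (p 0) (ω ^ 2 • p m) ω ∈ H := by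
    rw [hg] at hgm
    simpa [mul_assoc] using mul_mem hgm (inv_mem hUm)
  have T := P.tri
  have hz : hB n σ (p 0) (p 0) = 0 := T.hp.ee
  -- the centre
  have hT1 : eS hu (p 0) 0 (1 : F) ∈ H := by
    have h1 := chain hu P hβ₀ hb hUm hX₁
    rwa [show -(ω ^ 2 * σ ω) - σ (-(ω ^ 2 * σ ω)) = 1 by
      rw [map_neg, map_mul, hσ2, hu.invol, hσω]
      linear_combination hωq - ω * hω3 - (ω + 1) * h2] at h1
  have hM0 : InM hu H (p 0) 0 := by
    refine ⟨map_zero _, fun x d hE => ?_⟩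
    rw [smul_zero] at hE ⊢
    have h1 := hE.tr
    rw [map_zero, neg_zero, hu.pow, hq] at h1
    have h3 : d * (d + 1) = 0 := by linear_combination h1
    rcases mul_eq_zero.1 h3 with h | h
    · rw [h, eS_zero hu hz]; exact one_mem H
    · rwa [show d = 1 by linear_combination h - h2]
  -- the short root element
  have hr : eS hu (p 0) (ω • p (m - 1)) 0 ∈ H := by
    have hn' := P.dim
    have h1 := comm_step hu hUm (uel_zero hu P hβ₀) (T.isE hu hb) hX₁
    rw [Matrix.mulVec_smul, uel_w hu P hβ₀, smul_add, smul_smul, add_sub_cancel_left,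
      show ω ^ 2 * -σ ω = ω by rw [hσω]; linear_combination -ω * hω3 - ω * h2] at h1
    simp only [map_smul, map_smulₛₗ, LinearMap.smul_apply, smul_eq_mul, mul_zero,
      P.zero (i := m - 1) (j := m) (by omega) (by omega) (by omega)] at h1
    exact h1
  -- the mover
  have hve : mat v *ᵥ p 0 = p 0 + (1 : F) • p m + ω • p (2 * m) := by
    have h1 : mat v *ᵥ (mat s *ᵥ p (m + 1)) = mat s *ᵥ (mat U *ᵥ p (m + 1)) := by
      rw [hv, mat_mul_mulVec, mat_mul_mulVec, mat_inv_mulVec]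
    rw [hs1, Matrix.mulVec_smul, hU, uel_succ hu P hβ₀, Matrix.mulVec_add, Matrix.mulVec_add, Matrix.mulVec_smul,
      Matrix.mulVec_smul, hs1, hs2, hs3] at h1
    refine smul_right_injective _ hc0 (h1.trans ?_)
    match_scalars
    · ring
    · linear_combination -hc
    · field_simp
      linear_combination -hcc
  have hc1' : (1 : F) + σ 1 = 0 := by rw [map_one]; linear_combination h2
  obtain ⟨z, hzv⟩ : ∃ z, z = p 0 + (1 : F) • p m + ω • p (2 * m) := ⟨_, rfl⟩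
  rw [← hzv] at hve
  have hzz : hB n σ z z = 0 := by rw [← hve, hB_mat hu]; exact hz
  have hZ : tr hu z (1 : F) ∈ H := by
    have h1 := mul_mem (mul_mem (hv ▸ hvm : v ∈ H) (InM.central hu hM0 hz hc1')) (inv_mem (hv ▸ hvm : v ∈ H))
    rwa [conj_tr hu v hz hc1', hve] at h1
  have hBz : ∀ X Y Z : F, hB n σ z (X • p 0 + Y • p m + Z • p (2 * m)) = ω ^ 2 * X + Y + Z := by
    intro X Y Z
    rw [hzv]
    simp only [map_add, map_smul, map_smulₛₗ, LinearMap.add_apply, LinearMap.smul_apply, smul_eq_mul, map_one,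
      hσω, T.hp.ee, T.hp.ef, T.hp.ff, T.fe hu, T.inW.1, T.inW.2, T.we hu, T.wf hu, T.ww]
    ring
  have hZc : ∀ X Y Z : F, mat (tr hu z (1 : F)) *ᵥ (X • p 0 + Y • p m + Z • p (2 * m)) =
      (X + (ω ^ 2 * X + Y + Z)) • p 0 + (Y + (ω ^ 2 * X + Y + Z)) • p m +
        (Z + (ω ^ 2 * X + Y + Z) * ω) • p (2 * m) := by
    intro X Y Z
    rw [tr_mulVec hu hzz hc1', hBz, hzv]
    module
  have hyz : ∀ y, hB n σ (p 0) y = 0 → hB n σ (p (2 * m)) y = 0 → hB n σ (p m) y = 0 →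
      mat (tr hu z (1 : F)) *ᵥ y = y := by
    intro y h0 h1 h3
    rw [tr_mulVec hu hzz hc1', hzv]
    simp [h0, h1, h3]
  obtain ⟨h₁, hh₁⟩ : ∃ h₁ : Su n F q, h₁ = (eS hu (p 0) (ω ^ 2 • p m) ω)⁻¹ * tr hu z (1 : F) := ⟨_, rfl⟩
  have hh₁m : h₁ ∈ H := hh₁ ▸ mul_mem (inv_mem hX₁) hZ
  have hh₁e : mat h₁ *ᵥ p 0 = (1 : F) • p (2 * m) := by
    have e1 : mat (eS hu (p 0) (ω ^ 2 • p m) ω) *ᵥ ((0 : F) • p 0 + (0 : F) • p m + (1 : F) • p (2 * m)) =
        mat (tr hu z (1 : F)) *ᵥ ((1 : F) • p 0 + (0 : F) • p m + (0 : F) • p (2 * m)) := by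
      rw [T.mulVec hu hb, hZc]
      match_scalars
      · linear_combination -hωq + ω * h2
      · ring
      · linear_combination -hω3
    rw [hh₁, mat_mul_mulVec, show mat (tr hu z (1 : F)) *ᵥ p 0 =
      mat (tr hu z (1 : F)) *ᵥ ((1 : F) • p 0 + (0 : F) • p m + (0 : F) • p (2 * m)) by congr 1; module, ← e1,
      mat_inv_mulVec]
    module
  have hh₁y : ∀ y, hB n σ (p 0) y = 0 → hB n σ (p (2 * m)) y = 0 → hB n σ (p m) y = 0 → mat h₁ *ᵥ y = y := by
    intro y h0 h1 h3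
    rw [hh₁, mat_mul_mulVec, hyz y h0 h1 h3]
    conv_lhs => rw [← T.fix_perp hu hb h0 h3, mat_inv_mulVec]
  have hMf : InM hu H (p (2 * m)) 0 := by
    have h1 := InM.map hu hM0 hh₁m one_ne_zero hh₁e
    rwa [Matrix.mulVec_zero] at h1
  -- a central element of the three dimensional subgroup
  obtain ⟨R, hR⟩ : ∃ R : Su n F q, R = tr hu (p 0) (1 : F) * tr hu (p (2 * m)) (1 : F) * tr hu z (1 : F) := ⟨_, rfl⟩
  have hRm : R ∈ H := hR ▸ mul_mem (mul_mem (InM.central hu hM0 hz hc1') (InM.central hu hMf T.hp.ff hc1')) hZ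
  have hRc : ∀ X Y Z : F, mat R *ᵥ (X • p 0 + Y • p m + Z • p (2 * m)) =
      ((X + (ω ^ 2 * X + Y + Z)) + ((Z + (ω ^ 2 * X + Y + Z) * ω) + (X + (ω ^ 2 * X + Y + Z)))) • p 0 +
        (Y + (ω ^ 2 * X + Y + Z)) • p m +
        ((Z + (ω ^ 2 * X + Y + Z) * ω) + (X + (ω ^ 2 * X + Y + Z))) • p (2 * m) := by
    intro X Y Z
    rw [hR, mat_mul_mulVec, mat_mul_mulVec, hZc, tr_mulVec hu T.hp.ff hc1', tr_mulVec hu hz hc1']
    simp only [map_add, map_smul, smul_eq_mul, T.hp.ee, T.hp.ef, T.hp.ff, T.fe hu, T.inW.1, T.inW.2]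
    module
  have hKe : mat (R * R) *ᵥ p 0 = ω • p 0 := by
    rw [show mat (R * R) *ᵥ p 0 = mat (R * R) *ᵥ ((1 : F) • p 0 + (0 : F) • p m + (0 : F) • p (2 * m)) by
      congr 1; module, mat_mul_mulVec, hRc, hRc]
    match_scalars <;> (clear * - hωq h2; grind)
  have hKy : ∀ y, hB n σ (p 0) y = 0 → hB n σ (p (2 * m)) y = 0 → hB n σ (p m) y = 0 → mat (R * R) *ᵥ y = y := by
    intro y h0 h1 h3
    have h4 : mat R *ᵥ y = y := by
      rw [hR, mat_mul_mulVec, mat_mul_mulVec, hyz y h0 h1 h3, tr_mulVec hu T.hp.ff hc1', h1, mul_zero, zero_smul,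
        add_zero, tr_mulVec hu hz hc1', h0]
      simp
    rw [mat_mul_mulVec, h4, h4]
  have hn' := P.dim
  refine finish hu P hω0 hβ₀ hc0 hs3 hs4 hUm hvm hM0 ⟨P.zero (by omega) (by omega) (by omega), fun x d hE => ?_⟩
    hh₁m one_ne_zero hh₁e (by omega) hh₁y
  set pm := p (m - 1) with hpm
  have hpm0 : hB n σ (p 0) pm = 0 := P.zero (by omega) (by omega) (by omega)
  have hpmm : hB n σ pm pm = 0 := P.zero (by omega) (by omega) (by omega)
  have hE0 : ∀ y : F, IsE σ (p 0) (y • pm) 0 := fun y => InM.isE hu hz hpm0 y (by simp [hpmm])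
  let A : AddSubgroup F :=
    { carrier := {y | eS hu (p 0) (y • pm) 0 ∈ H}
      add_mem' := fun {a b} ha hb => by
        have h1 := mul_mem (show eS hu (p 0) (a • pm) 0 ∈ H from ha) (show eS hu (p 0) (b • pm) 0 ∈ H from hb)
        rw [eS_mul hu (hE0 a) (hE0 b)] at h1
        simpa [← add_smul, hpmm] using h1
      zero_mem' := by
        show eS hu (p 0) ((0 : F) • pm) 0 ∈ H
        rw [zero_smul, eS_zero hu hz]; exact one_mem H
      neg_mem' := fun {a} ha => by rw [show -a = a by linear_combination -a * h2]; exact ha }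
  have hrot : ∀ y ∈ A, σ ω * y ∈ A := fun y hy => by
    have h1 := mul_mem (mul_mem (mul_mem hRm hRm) hy) (inv_mem (mul_mem hRm hRm))
    have h3 := (hE0 y).conjS hu (R * R)
    have hfix : mat (R * R) *ᵥ pm = pm := hKy pm hpm0 (P.zero (by omega) (by omega) (by omega))
      (P.zero (by omega) (by omega) (by omega))
    rw [suConj hu _ (hE0 y), Matrix.mulVec_smul, hKe, hfix] at h1
    rw [Matrix.mulVec_smul, hKe, hfix] at h3
    rw [(eS_scale hu ω h3 hω0).1, smul_smul, mul_zero] at h1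
    exact h1
  have hω1' : σ ω * ω ∈ A := hrot ω hr
  have hx : x ∈ A := by
    have h4 : x ^ 4 = x := by rw [← hF]; exact FiniteField.pow_card x
    have h5 : x * (x - 1) * (x - ω) * (x - ω ^ 2) = 0 := by
      have : (x - ω) * (x - ω ^ 2) = x ^ 2 + x + 1 := by linear_combination -x * hωq + hω3
      rw [mul_assoc _ (x - ω), this]; linear_combination h4
    have h1 : σ ω * ω = 1 := by linear_combination hω1
    rcases mul_eq_zero.1 h5 with h | h
    · rcases mul_eq_zero.1 h with h | h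
      · rcases mul_eq_zero.1 h with h | h
        · exact h ▸ zero_mem A
        · rw [sub_eq_zero.1 h, ← h1]; exact hω1'
      · rw [sub_eq_zero.1 h]; exact hr
    · rw [sub_eq_zero.1 h, show ω ^ 2 = σ ω * ω + ω by rw [h1]; linear_combination hωq - (1 + ω) * h2]
      exact add_mem hω1' hr
  exact InM.adj hu hM0 (hE0 x) hx hE

end Cfsg.Agent.SUGen
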