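import Cfsg.Agent.SUGen.Basic
import Cfsg.Agent.AutPSU.Structure
import Cfsg.Agent.FormTri.Unitary

/-!
An antidiagonal frame of an odd dimensional Hermitian space, a swap of pairs, chains.
-/

set_option autoImplicit false

namespace Cfsg.Agent.SUGen

open Matrix Classical.Herm Cfsg.Agent.AutPSU Module

variable {n q : ℕ} {F : Type*} [Field F] {σ : F →+* F}

/-- A frame with antidiagonal Gram matrix, indexed by naturals. -/
structure Frame (σ : F →+* F) (m : ℕ) (p : ℕ → Vn n F) : Prop where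
  dim : n = 2 * m + 1
  two : 2 ≤ m
  herm : ∀ i j, i < n → j < n → hB n σ (p i) (p j) = if i + j = 2 * m then 1 else 0
  span : ∀ x : Vn n F, ∃ c : Fin n → F, x = ∑ i, c i • p i

variable {m : ℕ} {p : ℕ → Vn n F}

theorem Frame.one (P : Frame σ m p) {i j : ℕ} (h : i + j = 2 * m) : hB n σ (p i) (p j) = 1 := by
  have := P.dim
  rw [P.herm i j (by omega) (by omega), if_pos h]

theorem Frame.zero (P : Frame σ m p) {i j : ℕ} (hi : i < n) (hj : j < n) (h : i + j ≠ 2 * m) :
    hB n σ (p i) (p j) = 0 := by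
  rw [P.herm i j hi hj, if_neg h]

theorem Frame.tri (P : Frame σ m p) : Tri σ (p 0) (p (2 * m)) (p m) := by
  have := P.dim
  have := P.two
  exact ⟨⟨P.zero (by omega) (by omega) (by omega), P.zero (by omega) (by omega) (by omega), P.one (by omega)⟩,
    ⟨P.zero (by omega) (by omega) (by omega), P.zero (by omega) (by omega) (by omega)⟩, P.one (by omega)⟩

theorem Frame.hp (P : Frame σ m p) {i : ℕ} (hi : i < m) : HP σ (p i) (p (2 * m - i)) := by
  have := P.dim
  exact ⟨P.zero (by omega) (by omega) (by omega), P.zero (by omega) (by omega) (by omega), P.one (by omega)⟩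

theorem Frame.inW (P : Frame σ m p) {i j : ℕ} (hi : i < m) (hj : j < n) (h1 : j ≠ i) (h2 : j ≠ 2 * m - i) :
    InW σ (p i) (p (2 * m - i)) (p j) := by
  have := P.dim
  exact ⟨P.zero (by omega) hj (by omega), P.zero (by omega) hj (by omega)⟩

theorem Frame.ne_zero (P : Frame σ m p) {i : ℕ} (hi : i < n) : p i ≠ 0 := fun h => by
  have := P.dim
  have h1 := P.one (i := i) (j := 2 * m - i) (by omega)
  rw [h, map_zero, LinearMap.zero_apply] at h1
  exact zero_ne_one h1

variable [Fintype F] (hu : UCtx σ q)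
include hu

theorem Frame.exists_frame (hn : n = 2 * m + 1) (hm : 2 ≤ m) : ∃ p : ℕ → Vn n F, Frame σ m p := by
  obtain ⟨P, hP⟩ := FormTri.Unitary.exists_basis n hu.toIsInvol
  set A := (P : Matrix (Fin n) (Fin n) F) with hA
  set B := ((P⁻¹ : GL (Fin n) F) : Matrix (Fin n) (Fin n) F) with hB'
  have hAB : A * B = 1 := by rw [hA, hB', ← Units.val_mul, mul_inv_cancel, Units.val_one]
  have hBA : B * A = 1 := by rw [hA, hB', ← Units.val_mul, inv_mul_cancel, Units.val_one]
  let p : ℕ → Vn n F := fun k => if h : k < n then fun r => B r ⟨k, h⟩ else 0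
  have hcol : ∀ i : Fin n, p i = fun r => B r i := fun i => dif_pos i.2
  have hJ : Bᵀ * B.map σ = (FormTri.Unitary.ctx n hu.toIsInvol).J := by
    have hAB' : A.map σ * B.map σ = 1 := by rw [← Matrix.map_mul, hAB, Matrix.map_one _ (map_zero σ) (map_one σ)]
    have : Bᵀ * (Aᵀ * (FormTri.Unitary.ctx n hu.toIsInvol).J * A.map σ) * B.map σ =
        (FormTri.Unitary.ctx n hu.toIsInvol).J := by
      simp only [← Matrix.mul_assoc]
      rw [← Matrix.transpose_mul, hAB, Matrix.transpose_one, Matrix.one_mul, Matrix.mul_assoc, hAB', Matrix.mul_one]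
    rwa [hP, Matrix.mul_one] at this
  refine ⟨p, hn, hm, fun i j hi hj => ?_, fun x => ⟨A *ᵥ x, ?_⟩⟩
  · have h := congrArg σ (congrFun (congrFun hJ ⟨i, hi⟩) ⟨j, hj⟩)
    rw [Matrix.mul_apply, map_sum] at h
    rw [show p i = fun r => B r ⟨i, hi⟩ from dif_pos hi, show p j = fun r => B r ⟨j, hj⟩ from dif_pos hj,
      Classical.hermB_apply]
    refine (Finset.sum_congr rfl fun r _ => ?_).trans (h.trans ?_)
    · simp [hu.invol, mul_comm]
    · have he : ((⟨j, hj⟩ : Fin n) = Fin.rev ⟨i, hi⟩) ↔ i + j = 2 * m := by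
        simp only [Fin.ext_iff, Fin.val_rev]
        omega
      simp [FormTri.J_apply, FormTri.Unitary.ctx, apply_ite σ, he]
  · conv_lhs => rw [← Matrix.one_mulVec x, ← hBA, ← Matrix.mulVec_mulVec]
    funext r
    simp only [Finset.sum_apply, Pi.smul_apply, hcol, smul_eq_mul]
    rw [Matrix.mulVec, dotProduct]
    exact Finset.sum_congr rfl fun i _ => mul_comm _ _

/-- The permutation of indices used by the swap. -/
def piIdx (m j : ℕ) : ℕ :=
  if j < m - 1 then 2 * m - 1 - j else if j = m - 1 then 2 * m else if j = m then m else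
    if j = m + 1 then 0 else 2 * m + 1 - j

omit [Fintype F] hu in
theorem piIdx_lt (hn : n = 2 * m + 1) {j : ℕ} (hj : j < n) : piIdx m j < n := by
  unfold piIdx; split_ifs <;> omega

omit [Fintype F] hu in
theorem piIdx_rev (hm : 2 ≤ m) {i j : ℕ} (hi : i ≤ 2 * m) (hj : j ≤ 2 * m) :
    piIdx m i + piIdx m j = 2 * m ↔ i + j = 2 * m := by
  unfold piIdx; split_ifs <;> omega

omit [Fintype F] in
theorem Frame.coord (P : Frame σ m p) {x : Vn n F} {c : Fin n → F} (h : x = ∑ i, c i • p i) (j : Fin n) :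
    c j = hB n σ (p (2 * m - j)) x := by
  have := P.dim
  rw [h, map_sum, Finset.sum_eq_single j]
  · rw [map_smul, P.one (by omega), smul_eq_mul, mul_one]
  · intro i _ hi
    rw [map_smul, P.zero (by omega) i.2 (fun e => hi (Fin.ext (by omega))), smul_zero]
  · simp

/-- The swap as an element of SU, with prescribed scalar `c` and fixed `τ`. -/
theorem Frame.exists_swap (P : Frame σ m p) :
    ∃ τ : F, τ * σ τ = 1 ∧ ∀ c : F, c ≠ 0 → ∃ (s : Su n F q) (r : ℕ → F),
      mat s *ᵥ p (m + 1) = c • p 0 ∧ mat s *ᵥ p m = τ • p m ∧ mat s *ᵥ p (m - 1) = (σ c)⁻¹ • p (2 * m) ∧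
      (∀ j < m - 1, r j ≠ 0 ∧ mat s *ᵥ p j = r j • p (2 * m - 1 - j)) := by
  have hn := P.dim
  have hm := P.two
  choose co hco using P.span
  let L : Vn n F →ₗ[F] Vn n F :=
    ∑ i : Fin n, (hB n σ (p (2 * m - i))).smulRight (p (piIdx m i))
  have hLa : ∀ x, L x = ∑ i : Fin n, co x i • p (piIdx m i) := fun x => by
    rw [LinearMap.sum_apply]
    exact Finset.sum_congr rfl fun i _ => by rw [LinearMap.smulRight_apply, ← P.coord hu (hco x) i]
  have hLp : ∀ j, j < n → L (p j) = p (piIdx m j) := by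
    intro j hj
    rw [LinearMap.sum_apply, Finset.sum_eq_single (⟨j, hj⟩ : Fin n)]
    · rw [LinearMap.smulRight_apply, P.one (by simp only []; omega), one_smul]
    · intro i _ hi
      have := i.2
      rw [LinearMap.smulRight_apply, P.zero (by omega) hj (fun e => hi (Fin.ext (by simp only []; omega))), zero_smul]
    · simp
  obtain ⟨g, hg⟩ := exists_gu hu L fun x y => by
    conv_rhs => rw [hco x, hco y]
    rw [hLa x, hLa y]
    simp only [map_sum, map_smulₛₗ, LinearMap.sum_apply, LinearMap.smul_apply, smul_eq_mul, RingHom.id_apply, Finset.mul_sum]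
    refine Finset.sum_congr rfl fun i _ => Finset.sum_congr rfl fun j _ => ?_
    rw [P.herm _ _ (piIdx_lt hn j.2) (piIdx_lt hn i.2), P.herm _ _ j.2 i.2,
      if_congr (piIdx_rev hm (by have := j.2; omega) (by have := i.2; omega)) rfl rfl]
  have hgp : ∀ j, j < n → gmat g.1 *ᵥ p j = p (piIdx m j) := fun j hj => by rw [hg, hLp j hj]
  have hz := norm_ker_val hu (detU hu g)
  rw [detU_coe] at hz
  set z := (gmat g.1).det
  refine ⟨z⁻¹, by rw [map_inv₀, ← mul_inv, hz, inv_one], fun c hc => ?_⟩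
  obtain ⟨R, hR1, hR2, hR3⟩ := exists_refl hu (b := p m) (P.one (by omega)) (z := z⁻¹)
    (by rw [map_inv₀, ← mul_inv, hz, inv_one])
  obtain ⟨D, hD1, hD2, hD3, hD4⟩ := (P.hp (i := 0) (by omega)).exists_dil hu hc
  have hsc : σ c ≠ 0 := (map_ne_zero σ).2 hc
  obtain ⟨D', hE1, hE2, hE3, hE4⟩ := (P.hp (i := 1) (by omega)).exists_dil hu hsc
  rw [Nat.sub_zero] at hD2 hD3
  rw [hu.invol] at hE2
  have hdet : (gmat (D * D' * R * g).1).det = 1 := by
    simp only [Subgroup.coe_mul, gmat, Units.val_mul, Matrix.det_mul]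
    rw [show ((D.1 : GL (Fin n) F) : Matrix (Fin n) (Fin n) F).det = _ from hD4,
      show ((D'.1 : GL (Fin n) F) : Matrix (Fin n) (Fin n) F).det = _ from hE4,
      show ((R.1 : GL (Fin n) F) : Matrix (Fin n) (Fin n) F).det = _ from hR3,
      show ((g.1 : GL (Fin n) F) : Matrix (Fin n) (Fin n) F).det = z from rfl, hu.invol]
    field_simp [left_ne_zero_of_mul_eq_one hz]
  obtain ⟨s, hs⟩ := exists_su_of_gu hu _ hdet
  have hsp : ∀ j, j < n → mat s *ᵥ p j = gmat D.1 *ᵥ (gmat D'.1 *ᵥ (gmat R.1 *ᵥ p (piIdx m j))) := by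
    intro j hj
    rw [hs, ← hgp j hj]
    simp [gmat, Matrix.mulVec_mulVec, Matrix.mul_assoc]
  have hRf : ∀ i, i < n → i ≠ m → gmat R.1 *ᵥ p i = p i := fun i hi h =>
    hR2 _ (P.zero (by omega) hi (by omega))
  have hEf : ∀ i, i < n → i ≠ 1 → i ≠ 2 * m - 1 → gmat D'.1 *ᵥ p i = p i := fun i hi h1 h2 =>
    hE3 _ (P.inW (by omega) hi h1 h2)
  have hDf : ∀ i, i < n → i ≠ 0 → i ≠ 2 * m → gmat D.1 *ᵥ p i = p i := fun i hi h1 h2 => by
    have := P.inW (i := 0) (by omega) hi h1 (by omega)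
    rw [Nat.sub_zero] at this
    exact hD3 _ this
  refine ⟨s, fun j => if j = 0 then c⁻¹ else 1, ?_, ?_, ?_, fun j hj => ?_⟩
  · rw [hsp _ (by omega), show piIdx m (m + 1) = 0 by unfold piIdx; split_ifs <;> omega,
      hRf 0 (by omega) (by omega), hEf 0 (by omega) (by omega) (by omega), hD1]
  · rw [hsp _ (by omega), show piIdx m m = m by unfold piIdx; split_ifs <;> omega, hR1, Matrix.mulVec_smul,
      Matrix.mulVec_smul, hEf m (by omega) (by omega) (by omega), hDf m (by omega) (by omega) (by omega)]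
  · rw [hsp _ (by omega), show piIdx m (m - 1) = 2 * m by unfold piIdx; split_ifs <;> omega,
      hRf _ (by omega) (by omega), hEf _ (by omega) (by omega) (by omega), hD2]
  · dsimp only
    refine ⟨by split_ifs <;> simp [hc], ?_⟩
    rw [hsp _ (by omega), show piIdx m j = 2 * m - 1 - j by unfold piIdx; split_ifs <;> omega,
      hRf _ (by omega) (by omega)]
    by_cases h0 : j = 0
    · subst h0
      rw [Nat.sub_zero, hE2, if_pos rfl, Matrix.mulVec_smul, hDf _ (by omega) (by omega) (by omega)]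
    · rw [hEf _ (by omega) (by omega) (by omega), hDf _ (by omega) (by omega) (by omega), if_neg h0, one_smul]

end Cfsg.Agent.SUGen
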