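import Cfsg.Agent.SUGen.Odd.Frame

/-!
A regular unipotent element of an odd dimensional unitary group.
-/

set_option autoImplicit false

namespace Cfsg.Agent.SUGen

open Matrix Classical.Herm Cfsg.Agent.AutPSU

variable {n q : ℕ} {F : Type*} [Field F] [Fintype F] {σ : F →+* F} (hu : UCtx σ q) {m : ℕ} {p : ℕ → Vn n F}
include hu

/-- A short root element moving two basis vectors down. -/
noncomputable def stepEl (p : ℕ → Vn n F) (m k : ℕ) : Su n F q := eS hu (p k) ((-1 : F) • p (2 * m - 1 - k)) 0

/-- The Levi part. -/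
noncomputable def levi (p : ℕ → Vn n F) (m : ℕ) : ℕ → Su n F q
  | 0 => 1
  | k + 1 => stepEl hu p m k * levi p m k

/-- The regular unipotent element. -/
noncomputable def uel (p : ℕ → Vn n F) (m : ℕ) (α β : F) : Su n F q :=
  eS hu (p (m - 1)) (α • p m) β * levi hu p m (m - 1)

theorem step_mulVec (P : Frame σ m p) {k : ℕ} (hk : k + 1 < m) (x : Vn n F) :
    mat (stepEl hu p m k) *ᵥ x =
      x + (-(hB n σ (p k) x)) • p (2 * m - 1 - k) + hB n σ (p (2 * m - 1 - k)) x • p k := by
  have := P.dim
  have hE : IsE σ (p k) ((-1 : F) • p (2 * m - 1 - k)) 0 := by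
    refine ⟨P.zero (by omega) (by omega) (by omega), ?_, ?_⟩ <;>
      simp [P.zero (i := 2 * m - 1 - k) (j := k) (by omega) (by omega) (by omega),
        P.zero (i := 2 * m - 1 - k) (j := 2 * m - 1 - k) (by omega) (by omega) (by omega)]
  rw [stepEl, eS_mulVec hu hE, map_smulₛₗ, LinearMap.smul_apply, map_neg, map_one, smul_eq_mul]
  module

theorem step_fix (P : Frame σ m p) {k j : ℕ} (hk : k + 1 < m) (hj : j < n) (h1 : j ≠ 2 * m - k)
    (h2 : j ≠ k + 1) : mat (stepEl hu p m k) *ᵥ p j = p j := by
  have := P.dim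
  rw [step_mulVec hu P hk, P.zero (by omega) hj (by omega), P.zero (by omega) hj (by omega)]
  simp

theorem levi_fix (P : Frame σ m p) {j : ℕ} (hj : j < n) :
    ∀ k, k < m → (∀ i < k, j ≠ 2 * m - i ∧ j ≠ i + 1) → mat (levi hu p m k) *ᵥ p j = p j
  | 0, _, _ => mat_one_mulVec _
  | k + 1, hk, h => by
    rw [levi, mat_mul_mulVec, levi_fix P hj k (by omega) (fun i hi => h i (by omega)),
      step_fix hu P hk hj (h k (by omega)).1 (h k (by omega)).2]

theorem levi_low (P : Frame σ m p) {j : ℕ} (hj0 : 1 ≤ j) :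
    ∀ k, k < m → j ≤ k → mat (levi hu p m k) *ᵥ p j = p j + p (j - 1)
  | 0, _, h => by omega
  | k + 1, hk, h => by
    have := P.dim
    rw [levi, mat_mul_mulVec]
    rcases Nat.lt_or_ge j (k + 1) with h1 | h1
    · rw [levi_low P hj0 k (by omega) (by omega), Matrix.mulVec_add, step_fix hu P hk (by omega) (by omega) (by omega),
        step_fix hu P hk (by omega) (by omega) (by omega)]
    · rw [levi_fix hu P (by omega) k (by omega) (fun i hi => by omega), step_mulVec hu P hk,
        P.zero (by omega) (by omega) (by omega), P.one (by omega)]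
      rw [show j - 1 = k by omega]
      simp

/-- The span of the first basis vectors. -/
def low (p : ℕ → Vn n F) (l : ℕ) : Submodule F (Vn n F) := Submodule.span F (p '' Set.Iio l)

omit hu in
theorem mem_low {l i : ℕ} (h : i < l) : p i ∈ low p l := Submodule.subset_span ⟨i, h, rfl⟩

theorem levi_high (P : Frame σ m p) {j : ℕ} (hj : j ≤ 2 * m) :
    ∀ k, k < m → 2 * m - k < j → mat (levi hu p m k) *ᵥ p j - p j + p (j - 1) ∈ low p (j - 1)
  | 0, _, h => by omega
  | k + 1, hk, h => by
    have := P.dim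
    rw [levi, mat_mul_mulVec]
    rcases Nat.lt_or_ge (2 * m - k) j with h1 | h1
    · have hx := levi_high P hj k (by omega) h1
      set x := mat (levi hu p m k) *ᵥ p j
      rw [step_mulVec hu P hk, show ∀ a b : Vn n F, x + a + b - p j + p (j - 1) =
        (x - p j + p (j - 1)) + a + b from fun a b => by abel]
      exact add_mem (add_mem hx (Submodule.smul_mem _ _ (mem_low (by omega))))
        (Submodule.smul_mem _ _ (mem_low (by omega)))
    · rw [levi_fix hu P (by omega) k (by omega) (fun i hi => by omega), step_mulVec hu P hk,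
        P.one (by omega), P.zero (by omega) (by omega) (by omega), show 2 * m - 1 - k = j - 1 by omega]
      simp

variable {α β : F}

theorem mid_isE (P : Frame σ m p) (h : β + σ β = -(σ α * α)) : IsE σ (p (m - 1)) (α • p m) β := by
  have := P.dim
  have := P.two
  refine ⟨P.zero (by omega) (by omega) (by omega), ?_, ?_⟩
  · rw [map_smulₛₗ, LinearMap.smul_apply, P.zero (by omega) (by omega) (by omega), smul_zero]
  · simp only [map_smul, map_smulₛₗ, LinearMap.smul_apply, smul_eq_mul, RingHom.id_apply, P.one (show m + m = 2 * m by omega)]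
    linear_combination h

theorem mid_mulVec (P : Frame σ m p) (h : β + σ β = -(σ α * α)) (x : Vn n F) :
    mat (eS hu (p (m - 1)) (α • p m) β) *ᵥ x = x + (hB n σ (p (m - 1)) x * α) • p m +
      (β * hB n σ (p (m - 1)) x - σ α * hB n σ (p m) x) • p (m - 1) := by
  rw [eS_mulVec hu (mid_isE hu P h), map_smulₛₗ, LinearMap.smul_apply, smul_eq_mul]
  module

theorem uel_zero (P : Frame σ m p) (h : β + σ β = -(σ α * α)) :
    mat (uel hu p m α β) *ᵥ p 0 = p 0 := by
  have := P.dim
  have := P.two
  rw [uel, mat_mul_mulVec, levi_fix hu P (by omega) (m - 1) (by omega) (fun i hi => by omega), mid_mulVec hu P h,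
    P.zero (by omega) (by omega) (by omega), P.zero (by omega) (by omega) (by omega)]
  simp

theorem uel_low (P : Frame σ m p) (h : β + σ β = -(σ α * α)) {j : ℕ} (h1 : 1 ≤ j) (h2 : j < m) :
    mat (uel hu p m α β) *ᵥ p j = p j + p (j - 1) := by
  have := P.dim
  rw [uel, mat_mul_mulVec, levi_low hu P h1 (m - 1) (by omega) (by omega), mid_mulVec hu P h, map_add, map_add,
    P.zero (by omega) (by omega) (by omega), P.zero (i := m - 1) (j := j - 1) (by omega) (by omega) (by omega),
    P.zero (by omega) (by omega) (by omega), P.zero (i := m) (j := j - 1) (by omega) (by omega) (by omega)]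
  simp

theorem uel_w (P : Frame σ m p) (h : β + σ β = -(σ α * α)) :
    mat (uel hu p m α β) *ᵥ p m = p m + (-(σ α)) • p (m - 1) := by
  have := P.dim
  have := P.two
  rw [uel, mat_mul_mulVec, levi_fix hu P (by omega) (m - 1) (by omega) (fun i hi => by omega), mid_mulVec hu P h,
    P.zero (by omega) (by omega) (by omega), P.one (by omega)]
  simp

theorem uel_succ (P : Frame σ m p) (h : β + σ β = -(σ α * α)) :
    mat (uel hu p m α β) *ᵥ p (m + 1) = p (m + 1) + α • p m + β • p (m - 1) := by
  have := P.dim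
  have := P.two
  rw [uel, mat_mul_mulVec, levi_fix hu P (by omega) (m - 1) (by omega) (fun i hi => by omega), mid_mulVec hu P h,
    P.one (by omega), P.zero (by omega) (by omega) (by omega)]
  simp

theorem uel_high (P : Frame σ m p) (h : β + σ β = -(σ α * α)) {j : ℕ} (h1 : m + 1 < j) (h2 : j ≤ 2 * m) :
    mat (uel hu p m α β) *ᵥ p j - p j + p (j - 1) ∈ low p (j - 1) := by
  have := P.dim
  rw [uel, mat_mul_mulVec, mid_mulVec hu P h]
  set x := mat (levi hu p m (m - 1)) *ᵥ p j
  rw [show ∀ a b : Vn n F, x + a + b - p j + p (j - 1) = (x - p j + p (j - 1)) + a + b from fun a b => by abel]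
  exact add_mem (add_mem (levi_high hu P h2 (m - 1) (by omega) (by omega))
    (Submodule.smul_mem _ _ (mem_low (by omega)))) (Submodule.smul_mem _ _ (mem_low (by omega)))

theorem uel_regular (P : Frame σ m p) (h : β + σ β = -(σ α * α)) (hα : α ≠ 0) :
    IsNilpotent (mat (uel hu p m α β) - 1) ∧ (mat (uel hu p m α β) - 1) ^ (n - 1) ≠ 0 := by
  have hn := P.dim
  have hm := P.two
  set M := mat (uel hu p m α β) - 1 with hM
  have hMx : ∀ x, M *ᵥ x = mat (uel hu p m α β) *ᵥ x - x := fun x => by
    rw [hM, Matrix.sub_mulVec, Matrix.one_mulVec]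
  have h0 : M *ᵥ p 0 = 0 := by rw [hMx, uel_zero hu P h, sub_self]
  have hstep : ∀ j, j < 2 * m → ∃ c : F, c ≠ 0 ∧ M *ᵥ p (j + 1) - c • p j ∈ low p j := by
    intro j hj
    rcases Nat.lt_trichotomy (j + 1) m with hlt | heq | hgt
    · refine ⟨1, one_ne_zero, ?_⟩
      rw [hMx, uel_low hu P h (by omega) hlt, add_tsub_cancel_right]
      simp
    · refine ⟨-(σ α), neg_ne_zero.2 ((map_ne_zero σ).2 hα), ?_⟩
      rw [hMx, heq, uel_w hu P h, show m - 1 = j by omega]
      simp
    · rcases Nat.lt_or_ge (m + 1) (j + 1) with h3 | h3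
      · refine ⟨-1, neg_ne_zero.2 one_ne_zero, ?_⟩
        have := uel_high hu P h h3 (by omega)
        rw [add_tsub_cancel_right] at this
        rw [hMx, neg_smul, one_smul, sub_neg_eq_add]
        exact this
      · refine ⟨α, hα, ?_⟩
        obtain rfl : j = m := by omega
        rw [hMx, uel_succ hu P h, show p (j + 1) + α • p j + β • p (j - 1) - p (j + 1) - α • p j = β • p (j - 1) by abel]
        exact Submodule.smul_mem _ _ (mem_low (by omega))
  have hdrop : ∀ l, l ≤ n → ∀ x ∈ low p l, M *ᵥ x ∈ low p (l - 1) := by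
    intro l hl x hx
    induction hx using Submodule.span_induction with
    | mem y hy =>
      obtain ⟨i, hi, rfl⟩ := hy
      rw [Set.mem_Iio] at hi
      rcases i with _ | i
      · rw [h0]; exact zero_mem _
      · obtain ⟨c, -, hc⟩ := hstep i (by omega)
        have h1 : low p i ≤ low p (l - 1) := Submodule.span_mono (Set.image_mono (Set.Iio_subset_Iio (by omega)))
        have h2 := add_mem (h1 hc) (Submodule.smul_mem _ c (mem_low (p := p) (show i < l - 1 by omega)))
        rwa [sub_add_cancel] at h2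
    | zero => rw [Matrix.mulVec_zero]; exact zero_mem _
    | add a b _ _ ha hb => rw [Matrix.mulVec_add]; exact add_mem ha hb
    | smul c a _ ha => rw [Matrix.mulVec_smul]; exact Submodule.smul_mem _ _ ha
  have hzero : low p 0 = ⊥ := by simp [low]
  have hkill : ∀ l, l ≤ n → ∀ x ∈ low p l, (M ^ l) *ᵥ x = 0 := by
    intro l
    induction l with
    | zero => intro _ x hx; rw [hzero, Submodule.mem_bot] at hx; rw [hx, Matrix.mulVec_zero]
    | succ l ih =>
      intro hl x hx
      rw [pow_succ, ← Matrix.mulVec_mulVec]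
      exact ih (by omega) _ (by simpa using hdrop (l + 1) hl x hx)
  have htop : ∀ j, j ≤ 2 * m → ∃ C : F, C ≠ 0 ∧ (M ^ j) *ᵥ p j = C • p 0 := by
    intro j
    induction j with
    | zero => intro _; exact ⟨1, one_ne_zero, by rw [pow_zero, Matrix.one_mulVec, one_smul]⟩
    | succ j ih =>
      intro hj
      obtain ⟨c, hc0, hc⟩ := hstep j (by omega)
      obtain ⟨C, hC0, hC⟩ := ih (by omega)
      refine ⟨c * C, mul_ne_zero hc0 hC0, ?_⟩
      have h1 := hkill j (by omega) _ hc
      rw [Matrix.mulVec_sub, Matrix.mulVec_smul, hC, sub_eq_zero, smul_smul] at h1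
      rw [pow_succ, ← Matrix.mulVec_mulVec, h1]
  refine ⟨⟨n, Matrix.ext_of_mulVec_single fun i => ?_⟩, fun hz => ?_⟩
  · rw [Matrix.zero_mulVec]
    obtain ⟨c, hc⟩ := P.span (Pi.single i 1)
    refine hkill n le_rfl _ ?_
    rw [hc]
    exact Submodule.sum_mem _ fun i _ => Submodule.smul_mem _ _ (mem_low i.2)
  · obtain ⟨C, hC0, hC⟩ := htop (2 * m) le_rfl
    rw [show n - 1 = 2 * m by omega] at hz
    rw [hz, Matrix.zero_mulVec] at hC
    exact smul_ne_zero hC0 (P.ne_zero (by omega)) hC.symm

end Cfsg.Agent.SUGen
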